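import Cfsg.Agent.H29.Bender.CaseOne

/-!
GOOD (no element inverted by an involution fixes its point and another one) implies double
transitivity, by THEOREM A.
-/

set_option autoImplicit false
set_option linter.style.haveILetI false

namespace Cfsg.Agent.H29.Bender

open Subgroup
open Cfsg.Agent.H39
open Cfsg.Agent.Coprime.SE (Fixed pair mem_pair fix_conj card_eq_conj_mul)

variable {G : Type*} [Group G] [Finite G] {H : Subgroup G}

/-- GOOD: no non-trivial element inverted by an involution fixes its point and another one. -/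
def NoBElement (H : Subgroup G) : Prop :=
  ∀ (u j : G) (c x : G ⧸ H), orderOf u = 2 → u • c = c → u * j * u⁻¹ = j⁻¹ → j • c = c →
    x ≠ c → j • x = x → j = 1

/-- A1: an odd group normalised by an involution, fixing its point and another one, is centralised
by it. -/
theorem NoBElement.centralizes (hgood : NoBElement H) {u : G} (hu : orderOf u = 2) {c : G ⧸ H}
    (huc : u • c = c) {Y : Subgroup G} (hY : Odd (Nat.card Y))
    (huY : u ∈ normalizer (Y : Set G)) (hYc : Fixed Y c) {x : G ⧸ H} (hxc : x ≠ c)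
    (hYx : Fixed Y x) {y : G} (hy : y ∈ Y) : Commute y u := by
  have hu2 := mul_self_of_orderOf_eq_two hu
  have hui : u⁻¹ = u := inv_eq_of_orderOf_eq_two hu
  have hyu : u * y⁻¹ * u⁻¹ ∈ Y := (Subgroup.mem_normalizer_iff.mp huY _).mp (inv_mem hy)
  set j := y * (u * y⁻¹ * u⁻¹) with hj
  have hjY : j ∈ Y := mul_mem hy hyu
  have hinv : u * j * u⁻¹ = j⁻¹ := by
    rw [hj, hui]
    simp only [mul_inv_rev, inv_inv, hui]
    calc u * (y * (u * y⁻¹ * u)) * u = u * y * (u * y⁻¹) * (u * u) := by simp only [mul_assoc]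
      _ = u * y * u * y⁻¹ := by rw [hu2, mul_one, ← mul_assoc]
      _ = u * (y * u) * y⁻¹ := by simp only [mul_assoc]
  have h1 : j = 1 := hgood u j c x hu huc hinv (hYc j hjY) hxc (hYx j hjY)
  rw [hj, mul_eq_one_iff_eq_inv] at h1
  have h2 : y = u * y * u⁻¹ := by
    conv_lhs => rw [h1]
    group
  change y * u = u * y
  conv_lhs => rw [h2]
  group

/-- The number of involutions at each point is odd. -/
theorem odd_card_point_involutions (hH : Cfsg.IsStronglyEmbedded H) :
    Odd (Nat.card {t : G // orderOf t = 2 ∧ t ∈ H}) := by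
  classical
  haveI := Fintype.ofFinite H
  obtain ⟨t₀, ht₀, ht₀H⟩ := se_exists_involution hH
  let σ : Equiv.Perm H := Equiv.inv H
  have hσ : σ ^ 2 ^ 1 = 1 := by ext g; simp [σ, pow_two]
  have hs := Equiv.Perm.two_dvd_card_support (σ := σ) (by simpa using hσ)
  have hsupp : σ.support = Finset.univ \
      insert 1 (Finset.univ.filter fun z : H => orderOf z = 2) := by
    ext g
    simp only [σ, Equiv.Perm.mem_support, Equiv.inv_apply, Finset.mem_sdiff, Finset.mem_univ,
      Finset.mem_insert, Finset.mem_filter, true_and]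
    constructor
    · rintro h (rfl | h2)
      · exact h inv_one
      · exact h (inv_eq_of_orderOf_eq_two h2)
    · intro h he
      push Not at h
      refine h.2 (orderOf_eq_two_of_mul_self ?_ h.1)
      nth_rw 1 [← he]
      exact inv_mul_cancel g
  have hcount : Nat.card {z : H // orderOf z = 2} = Nat.card {t : G // orderOf t = 2 ∧ t ∈ H} :=
    Nat.card_congr
      { toFun := fun z => ⟨z.1.1, (Subgroup.orderOf_coe z.1).trans z.2, z.1.2⟩
        invFun := fun t => ⟨⟨t.1, t.2.2⟩, (Subgroup.orderOf_coe _).symm.trans t.2.1⟩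
        left_inv := fun _ => rfl
        right_inv := fun _ => rfl }
  have hc : σ.support.card + (Nat.card {z : H // orderOf z = 2} + 1) = Nat.card H := by
    rw [hsupp, Nat.card_eq_fintype_card, Fintype.card_subtype, Nat.card_eq_fintype_card,
      ← Finset.card_univ]
    have hn : (1 : H) ∉ Finset.univ.filter fun z : H => orderOf z = 2 := by simp
    rw [← Finset.card_insert_of_notMem hn]
    exact Finset.card_sdiff_add_card_eq_card (Finset.subset_univ _)
  have h2 := hH.2.1
  rw [Nat.even_iff] at h2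
  rw [Nat.odd_iff, ← hcount]
  omega

/-- GOOD gives `(A_q)` for every prime dividing the number of involutions at a point. -/
theorem NoBElement.noNormalisingInvolution (hH : Cfsg.IsStronglyEmbedded H) (hgood : NoBElement H)
    {q : ℕ} [Fact q.Prime] (hq : Odd q)
    (hm : q ∣ Nat.card {t : G // orderOf t = 2 ∧ t ∈ H}) : NoNormalisingInvolution H q := by
  intro u e z T Y hu hue hze hT hTY hY hYe hf huN
  obtain ⟨f, hfe, hYf⟩ := hf
  have hcomm : ∀ y ∈ T, y * u = u * y := fun y hy =>
    (hgood.centralizes hu hue (odd_card_of_isPGroup hY hq) huN hYe hfe hYf (hTY hy)).eq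
  have hD := card_eq_conj_mul (pair e z) u (fun v => orderOf v = 2 ∧ v • e = e)
    (fun d hd => ⟨by rw [orderOf_conj, hu],
      by rw [mul_smul, mul_smul, inv_smul_eq_iff.mpr hd.1.symm, hue, hd.1]⟩)
    (fun v hv => fix_conj hH (Ne.symm hze) hu hv.1 hue hv.2)
  rw [se_card_fix] at hD
  have hdvd : q * Nat.card T ∣ Nat.card (pair e z) := by
    rw [hD]
    exact mul_dvd_mul hm (card_dvd_of_le
      (le_inf hT.le fun y hy => mem_centralizer_singleton_iff.mpr (hcomm y hy)))
  rw [hT.card_eq, ← pow_succ'] at hdvd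
  exact Nat.pow_succ_factorization_not_dvd Nat.card_pos.ne' Fact.out hdvd

/-- GOOD implies double transitivity in rank at least two. -/
theorem NoBElement.two_transitive (hH : Cfsg.IsStronglyEmbedded H) (hgood : NoBElement H)
    {s t : G} (hs : orderOf s = 2) (ht : orderOf t = 2) (hst : s ≠ t) (hc : Commute s t)
    {a b b' : G ⧸ H} (hb : b ≠ a) (hb' : b' ≠ a) : ∃ g : G, g • a = a ∧ g • b = b' := by
  obtain ⟨p, hsp⟩ := se_exists_fix hH hs
  have htp : t • p = p := se_fix_unique hH hs (by rw [← mul_smul, hc.eq, mul_smul, hsp]) hsp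
  haveI : Nontrivial {v : G // orderOf v = 2 ∧ v • p = p} :=
    ⟨⟨⟨s, hs, hsp⟩, ⟨t, ht, htp⟩, fun h => hst (congrArg Subtype.val h)⟩⟩
  have hk1 : 1 < Nat.card {v : G // orderOf v = 2 ∧ v ∈ H} := by
    rw [← se_card_fix p]; exact Finite.one_lt_card
  haveI : Fact (Nat.card {v : G // orderOf v = 2 ∧ v ∈ H}).minFac.Prime :=
    ⟨Nat.minFac_prime hk1.ne'⟩
  have hq := (odd_card_point_involutions hH).of_dvd_nat (Nat.minFac_dvd _)
  exact Bender.two_transitive hH hq
    (hgood.noNormalisingInvolution hH hq (Nat.minFac_dvd _)) hb hb'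

/-- S1220 from GOOD. -/
theorem dichotomy_of_good (hH : Cfsg.IsStronglyEmbedded H)
    (hgood : (∃ s t : G, orderOf s = 2 ∧ orderOf t = 2 ∧ s ≠ t ∧ Commute s t) → NoBElement H) :
    (∀ g₁ g₂ : G, g₁ ∉ H → g₂ ∉ H → ∃ h ∈ H, g₂⁻¹ * (h * g₁) ∈ H) ∨
    ((∀ S : Sylow 2 G, IsCyclic S ∨
      ∃ m : ℕ, 1 ≤ m ∧ Nonempty ((S : Subgroup G) ≃* QuaternionGroup (2 ^ m))) ∧
      Cfsg.oddCore G ⊔ H = ⊤) := by
  by_cases hex : ∃ s t : G, orderOf s = 2 ∧ orderOf t = 2 ∧ s ≠ t ∧ Commute s t
  · left
    obtain ⟨s, t, hs, ht, hst, hc⟩ := hex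
    intro g₁ g₂ h₁ h₂
    have hne : ∀ g : G, g ∉ H → (QuotientGroup.mk g : G ⧸ H) ≠ QuotientGroup.mk 1 := fun g hg h =>
      hg (by simpa using H.inv_mem (QuotientGroup.eq.mp h))
    obtain ⟨g, hg1, hg2⟩ := NoBElement.two_transitive hH (hgood ⟨s, t, hs, ht, hst, hc⟩) hs ht
      hst hc (hne g₁ h₁) (hne g₂ h₂)
    refine ⟨g, by simpa using se_smul_mk_eq_iff.mp hg1, ?_⟩
    rw [MulAction.Quotient.smul_mk, QuotientGroup.eq, smul_eq_mul] at hg2
    simpa [mul_assoc] using H.inv_mem hg2
  · right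
    push Not at hex
    exact rank_one_dichotomy hH fun s t hs ht hc => by
      by_contra hne
      exact hex s t hs ht hne hc

end Cfsg.Agent.H29.Bender
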