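import Cfsg.Agent.Coprime.SE.FreeMax

/-!
Largest `q`-subgroups of a subgroup, and involutions produced by elements whose square lies in an
odd subgroup.
-/

set_option autoImplicit false
set_option linter.style.haveILetI false

namespace Cfsg.Agent.H29.Bender

open Subgroup
open Cfsg.Agent.H39

variable {G : Type*} [Group G] [Finite G] {q : ℕ} [Fact q.Prime]

/-- `T` is a `q`-subgroup of `D` of the largest possible order. -/
structure IsSyl (q : ℕ) (D T : Subgroup G) : Prop where
  le : T ≤ D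
  pgroup : IsPGroup q T
  max : ∀ P : Subgroup G, P ≤ D → IsPGroup q P → Nat.card P ≤ Nat.card T

theorem sylow_map {D : Subgroup G} (R : Sylow q D) :
    IsSyl q D ((R : Subgroup D).map D.subtype) := by
  refine ⟨map_subtype_le _, R.2.map _, fun P hP hPq => ?_⟩
  obtain ⟨R', hR'⟩ := (hPq.comap_subtype (K := D)).exists_le_sylow
  rw [card_map_of_injective D.subtype_injective, R.card_eq_multiplicity, ← R'.card_eq_multiplicity,
    ← Nat.card_congr (subgroupOfEquivOfLe hP).toEquiv]
  exact Nat.le_of_dvd Nat.card_pos (card_dvd_of_le hR')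

theorem exists_isSyl_ge {D P : Subgroup G} (hP : P ≤ D) (hPq : IsPGroup q P) :
    ∃ T, P ≤ T ∧ IsSyl q D T := by
  obtain ⟨R, hR⟩ := (hPq.comap_subtype (K := D)).exists_le_sylow
  exact ⟨(R : Subgroup D).map D.subtype, fun x hx => ⟨⟨x, hP hx⟩, hR hx, rfl⟩, sylow_map R⟩

omit [Fact q.Prime] in
theorem IsSyl.eq_of_ge {D T P : Subgroup G} (hT : IsSyl q D T) (hTP : T ≤ P) (hPD : P ≤ D)
    (hP : IsPGroup q P) : P = T :=
  (Subgroup.eq_of_le_of_card_ge hTP (hT.max P hPD hP)).symm

theorem IsSyl.exists_sylow {D T : Subgroup G} (hT : IsSyl q D T) :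
    ∃ R : Sylow q D, (R : Subgroup D).map D.subtype = T := by
  obtain ⟨R, hR⟩ := (hT.pgroup.comap_subtype (K := D)).exists_le_sylow
  exact ⟨R, hT.eq_of_ge (fun x hx => ⟨⟨x, hT.le hx⟩, hR hx, rfl⟩) (map_subtype_le _) (R.2.map _)⟩

theorem IsSyl.card_eq {D T : Subgroup G} (hT : IsSyl q D T) :
    Nat.card T = q ^ (Nat.card D).factorization q := by
  obtain ⟨R, rfl⟩ := hT.exists_sylow
  rw [card_map_of_injective D.subtype_injective, R.card_eq_multiplicity]

theorem IsSyl.exists_conj {D T T' : Subgroup G} (hT : IsSyl q D T) (hT' : IsSyl q D T') :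
    ∃ d ∈ D, T.map (MulAut.conj d).toMonoidHom = T' := by
  obtain ⟨R, rfl⟩ := hT.exists_sylow
  obtain ⟨R', rfl⟩ := hT'.exists_sylow
  obtain ⟨d, hd⟩ := MulAction.exists_smul_eq D R R'
  have h1 : (R' : Subgroup D) = (R : Subgroup D).map (MulAut.conj d).toMonoidHom := by
    rw [← hd]; rfl
  refine ⟨d, d.2, ?_⟩
  rw [h1, Subgroup.map_map, Subgroup.map_map]
  exact congrArg (fun f => Subgroup.map f (R : Subgroup D)) (MonoidHom.ext fun _ => rfl)

omit [Finite G] [Fact q.Prime] in
/-- Conjugation by `g` of a subgroup of `D`, for `g` normalising `D`. -/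
theorem map_conj_le {D T : Subgroup G} (hT : T ≤ D) {g : G} (hg : g ∈ normalizer (D : Set G)) :
    T.map (MulAut.conj g).toMonoidHom ≤ D := by
  rintro _ ⟨t, ht, rfl⟩
  exact (Subgroup.mem_normalizer_iff.mp hg t).mp (hT ht)

/-- Frattini: an element normalising `D` can be corrected inside `D` to normalise `T`. -/
theorem IsSyl.exists_mul_mem_normalizer {D T : Subgroup G} (hT : IsSyl q D T) {g : G}
    (hg : g ∈ normalizer (D : Set G)) : ∃ d ∈ D, d * g ∈ normalizer (T : Set G) := by
  have hT' : IsSyl q D (T.map (MulAut.conj g).toMonoidHom) :=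
    ⟨map_conj_le hT.le hg, hT.pgroup.map _, fun P hP hPq => by
      rw [card_map_of_injective (MulAut.conj g).injective]; exact hT.max P hP hPq⟩
  obtain ⟨d, hd, hdT⟩ := hT'.exists_conj hT
  refine ⟨d, hd, mem_normalizer_iff_map_conj.mpr ?_⟩
  conv_rhs => rw [← hdT]
  rw [Subgroup.map_map]
  refine congrArg (fun f => Subgroup.map f T) (MonoidHom.ext fun _ => ?_)
  simp [mul_assoc]

omit [Fact q.Prime] in
/-- If `g` is outside the odd subgroup `D` and its square is inside, an odd power of `g` is an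
involution. -/
theorem exists_involution_of_sq {D : Subgroup G} (hD : Odd (Nat.card D)) {g : G}
    (hg2 : g * g ∈ D) (hg : g ∉ D) : ∃ k : ℕ, orderOf (g * (g * g) ^ k) = 2 := by
  obtain ⟨k, hk⟩ : Odd (orderOf (g * g)) := by
    rw [← Subgroup.orderOf_mk (g * g) hg2]
    exact hD.of_dvd_nat (orderOf_dvd_natCard _)
  refine ⟨k, orderOf_eq_two_of_mul_self ?_ fun h => hg ?_⟩
  · have hc : Commute g (g * g) := (Commute.refl g).mul_right (Commute.refl g)
    calc g * (g * g) ^ k * (g * (g * g) ^ k) = g * g * ((g * g) ^ k * (g * g) ^ k) := by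
          rw [mul_assoc, ← mul_assoc ((g * g) ^ k), ← (hc.pow_right k).eq]
          simp [mul_assoc]
      _ = (g * g) ^ (2 * k + 1) := by rw [← pow_add, ← pow_succ', two_mul]
      _ = 1 := by rw [← hk, pow_orderOf_eq_one]
  · rw [eq_inv_of_mul_eq_one_left h]
    exact inv_mem (pow_mem hg2 k)

omit [Finite G] [Fact q.Prime] in
/-- An element of odd order preserving a pair of points fixes both. -/
theorem fix_pair_of_odd {X : Type*} [MulAction G X] {g : G} (hg : Odd (orderOf g)) {x y : X}
    (hx : g • x = x ∨ g • x = y) (hy : g • y = x ∨ g • y = y) : g • x = x ∧ g • y = y := by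
  by_cases hxy : x = y
  · subst hxy; exact ⟨hx.elim id id, hy.elim id id⟩
  rcases hx with hx | hx
  · refine ⟨hx, hy.resolve_left fun h => hxy ?_⟩
    exact MulAction.injective g (hx.trans h.symm)
  · exfalso
    have hy' : g • y = x := hy.resolve_right fun h => hxy (MulAction.injective g (hx.trans h.symm))
    obtain ⟨k, hk⟩ := hg
    have h2 : g ^ (2 * k) • x = x := by
      have : g ^ 2 ∈ MulAction.stabilizer G x := by
        rw [MulAction.mem_stabilizer_iff, pow_two, mul_smul, hx, hy']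
      rw [pow_mul]
      exact pow_mem this k
    have h1 : g ^ (2 * k + 1) • x = y := by rw [pow_succ', mul_smul, h2, hx]
    rw [← hk, pow_orderOf_eq_one, one_smul] at h1
    exact hxy h1

theorem odd_orderOf_of_isPGroup {P : Subgroup G} (hP : IsPGroup q P) (hq : Odd q) {g : G}
    (hg : g ∈ P) : Odd (orderOf g) := by
  obtain ⟨n, hn⟩ := IsPGroup.iff_card.mp hP
  rw [← Subgroup.orderOf_mk g hg]
  exact (hn ▸ hq.pow).of_dvd_nat (orderOf_dvd_natCard _)

theorem odd_card_of_isPGroup {P : Subgroup G} (hP : IsPGroup q P) (hq : Odd q) :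
    Odd (Nat.card P) := by
  obtain ⟨n, hn⟩ := IsPGroup.iff_card.mp hP
  exact hn ▸ hq.pow

/-- Witt: two fixed points of a largest `q`-subgroup `K` of `N` in one orbit of `N` are in one
orbit of the normaliser of `K` in `N`. -/
theorem witt {X : Type*} [MulAction G X] {N K : Subgroup G} (hK : IsSyl q N K) {x y : X}
    (hx : ∀ k ∈ K, k • x = x) (hy : ∀ k ∈ K, k • y = y) {n : G} (hn : n ∈ N) (hnx : n • x = y) :
    ∃ g ∈ N, g ∈ normalizer (K : Set G) ∧ g • x = y := by
  set D : Subgroup G := N ⊓ MulAction.stabilizer G y with hD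
  have hKD : IsSyl q D K := ⟨le_inf hK.le fun k hk => hy k hk, hK.pgroup,
    fun P hP hPq => hK.max P (hP.trans inf_le_left) hPq⟩
  have hK' : IsSyl q D (K.map (MulAut.conj n).toMonoidHom) := by
    refine ⟨le_inf (map_conj_le hK.le (Subgroup.le_normalizer hn)) ?_, hK.pgroup.map _,
      fun P hP hPq => ?_⟩
    · rintro _ ⟨k, hk, rfl⟩
      rw [MulAction.mem_stabilizer_iff]
      simp [mul_smul, ← hnx, hx k hk]
    · rw [card_map_of_injective (MulAut.conj n).injective]
      exact hKD.max P hP hPq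
  obtain ⟨d, hd, hdK⟩ := hK'.exists_conj hKD
  refine ⟨d * n, mul_mem hd.1 hn, mem_normalizer_iff_map_conj.mpr ?_, by rw [mul_smul, hnx, hd.2]⟩
  conv_rhs => rw [← hdK]
  rw [Subgroup.map_map]
  refine congrArg (fun f => Subgroup.map f K) (MonoidHom.ext fun _ => ?_)
  simp [mul_assoc]

end Cfsg.Agent.H29.Bender
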