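import Cfsg.Agent.H29.Bender.TheoremA
import Cfsg.Agent.S0016

/-!
S1220 in case (i): if the involutions of `H` commute modulo `O(H)`, the dichotomy holds.
-/

set_option autoImplicit false
set_option linter.style.haveILetI false

namespace Cfsg.Agent.H29.Bender

open Subgroup
open Cfsg.Agent.H39
open Cfsg.Agent.Coprime.SE (Fixed pair mem_pair fix_conj)

/-- The involutions of `K` commute modulo the odd core. -/
def CommutingInvolutions (K : Type*) [Group K] : Prop :=
  ∀ s t : K, orderOf s = 2 → orderOf t = 2 → s * t * s⁻¹ * t⁻¹ ∈ Cfsg.oddCore K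

/-- The number of involutions of `K / O(K)`. -/
noncomputable def involutionCount (K : Type*) [Group K] : ℕ :=
  Nat.card {x : K ⧸ Cfsg.oddCore K // orderOf x = 2}

section Abstract

variable {K : Type*} [Group K] [Finite K]

/-- Every involution of `K / O(K)` comes from one of `K`. -/
theorem exists_lift {x : K ⧸ Cfsg.oddCore K} (hx : orderOf x = 2) :
    ∃ t : K, orderOf t = 2 ∧ (t : K ⧸ Cfsg.oddCore K) = x := by
  induction x using QuotientGroup.induction_on with
  | _ g =>
  have h2 : g * g ∈ Cfsg.oddCore K := by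
    rw [← QuotientGroup.eq_one_iff, QuotientGroup.mk_mul, mul_self_of_orderOf_eq_two hx]
  have hg : g ∉ Cfsg.oddCore K := fun h => by
    rw [(QuotientGroup.eq_one_iff g).mpr h, orderOf_one] at hx
    exact absurd hx (by norm_num)
  obtain ⟨k, hk⟩ := exists_involution_of_sq (Cores.odd_card_oddCore (G := K)) h2 hg
  refine ⟨_, hk, ?_⟩
  rw [QuotientGroup.mk_mul, (QuotientGroup.eq_one_iff _).mpr (pow_mem h2 k), mul_one]

theorem orderOf_mk_involution {t : K} (ht : orderOf t = 2) :
    orderOf (t : K ⧸ Cfsg.oddCore K) = 2 := by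
  refine orderOf_eq_two_of_mul_self ?_ fun h => ?_
  · rw [← QuotientGroup.mk_mul, mul_self_of_orderOf_eq_two ht, QuotientGroup.mk_one]
  · have hodd : Odd (orderOf t) := by
      rw [← Subgroup.orderOf_mk t ((QuotientGroup.eq_one_iff t).mp h)]
      exact (Cores.odd_card_oddCore (G := K)).of_dvd_nat (orderOf_dvd_natCard _)
    rw [ht] at hodd
    exact absurd hodd (by decide)

/-- Case (i) implies `(A_q)` for every prime `q` dividing the number of involutions of `K / O(K)`. -/
theorem not_normalising (hcomm : CommutingInvolutions K) {q : ℕ} [Fact q.Prime] (hq : Odd q)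
    (hk : q ∣ involutionCount K) {D T Y : Subgroup K}
    (htr : ∀ s t : K, orderOf s = 2 → orderOf t = 2 → ∃ d ∈ D, d * s * d⁻¹ = t)
    (hT : IsSyl q D T) (hTY : T ≤ Y) (hY : IsPGroup q Y) {u : K} (hu : orderOf u = 2) :
    u ∉ normalizer (Y : Set K) := by
  classical
  intro huY
  let π : K →* K ⧸ Cfsg.oddCore K := QuotientGroup.mk' _
  letI : MulAction D (K ⧸ Cfsg.oddCore K) :=
    MulAction.compHom _ ((MulAut.conj : _ →* MulAut (K ⧸ Cfsg.oddCore K)).comp (π.comp D.subtype))
  have hsmul : ∀ (d : D) (x : K ⧸ Cfsg.oddCore K), d • x = π d * x * (π d)⁻¹ := fun _ _ => rfl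
  have horb : MulAction.orbit D (π u) = {x | orderOf x = 2} := by
    ext x
    constructor
    · rintro ⟨d, rfl⟩
      change orderOf (d • π u) = 2
      rw [hsmul, orderOf_conj]
      exact orderOf_mk_involution hu
    · intro hx
      obtain ⟨t, ht, rfl⟩ := exists_lift hx
      obtain ⟨d, hd, rfl⟩ := htr u t hu ht
      exact ⟨⟨d, hd⟩, by simp [hsmul, π]⟩
  have hstab : T.subgroupOf D ≤ MulAction.stabilizer D (π u) := by
    intro d hd
    rw [MulAction.mem_stabilizer_iff, hsmul]
    have hy : (d : K) ∈ Y := hTY hd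
    set x : K := (d : K) * u * (d : K)⁻¹ * u⁻¹ with hx
    have hxY : x ∈ Y := by
      have : x = (d : K) * (u * (d : K)⁻¹ * u⁻¹) := by rw [hx]; group
      rw [this]
      exact mul_mem hy ((Subgroup.mem_normalizer_iff.mp huY _).mp (inv_mem hy))
    have h2 : π x * π x = 1 := by
      have ho : orderOf ((d : K) * u * (d : K)⁻¹) = 2 := by rw [orderOf_conj, hu]
      have hc : π ((d : K) * u * (d : K)⁻¹) * π u = π u * π ((d : K) * u * (d : K)⁻¹) := by
        have h := (QuotientGroup.eq_one_iff _).mpr (hcomm _ _ ho hu)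
        change π _ = 1 at h
        rw [map_mul, map_mul, map_mul, map_inv, map_inv] at h
        rwa [mul_inv_eq_one, mul_inv_eq_iff_eq_mul] at h
      have hs : π u * π u = 1 := by rw [← map_mul, mul_self_of_orderOf_eq_two hu, map_one]
      have hs' : π ((d : K) * u * (d : K)⁻¹) * π ((d : K) * u * (d : K)⁻¹) = 1 := by
        rw [← map_mul, mul_self_of_orderOf_eq_two ho, map_one]
      rw [hx, map_mul _ ((d : K) * u * (d : K)⁻¹), inv_eq_of_orderOf_eq_two hu]
      calc _ = π ((d : K) * u * (d : K)⁻¹) * (π u * π ((d : K) * u * (d : K)⁻¹)) * π u := by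
            simp only [mul_assoc]
        _ = 1 := by rw [← hc, ← mul_assoc, hs', one_mul, hs]
    have hodd := odd_orderOf_of_isPGroup hY hq hxY
    have h1 : π x = 1 := by
      obtain ⟨k, hk⟩ := hodd
      have h := congrArg π (pow_orderOf_eq_one x)
      rw [map_pow, map_one, hk, pow_succ, pow_mul, pow_two, h2, one_pow, one_mul] at h
      exact h
    rw [hx, map_mul, map_inv, mul_inv_eq_one] at h1
    simpa using h1
  haveI := Fintype.ofFinite D
  haveI := Fintype.ofFinite (MulAction.orbit D (π u))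
  haveI := Fintype.ofFinite (MulAction.stabilizer D (π u))
  have hcard := MulAction.card_orbit_mul_card_stabilizer_eq_card_group D (π u)
  have hdvd : q * Nat.card T ∣ Nat.card D := by
    rw [Nat.card_eq_fintype_card (α := D), ← hcard, ← Nat.card_eq_fintype_card,
      ← Nat.card_eq_fintype_card]
    refine mul_dvd_mul ?_ ?_
    · rw [horb]; exact hk
    · rw [← Nat.card_congr (subgroupOfEquivOfLe hT.le).toEquiv]
      exact card_dvd_of_le hstab
  rw [hT.card_eq, ← pow_succ'] at hdvd
  exact Nat.pow_succ_factorization_not_dvd Nat.card_pos.ne' Fact.out hdvd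

theorem odd_involutionCount (h2 : Even (Nat.card K)) : Odd (involutionCount K) := by
  classical
  obtain ⟨t, ht⟩ := exists_prime_orderOf_dvd_card' 2 (even_iff_two_dvd.mp h2)
  have hQ : Even (Nat.card (K ⧸ Cfsg.oddCore K)) := by
    rw [even_iff_two_dvd, ← orderOf_mk_involution ht]
    exact orderOf_dvd_natCard _
  haveI := Fintype.ofFinite (K ⧸ Cfsg.oddCore K)
  let σ : Equiv.Perm (K ⧸ Cfsg.oddCore K) := Equiv.inv _
  have hσ : σ ^ 2 ^ 1 = 1 := by ext g; simp [σ, pow_two]
  have hs := Equiv.Perm.two_dvd_card_support (σ := σ) (by simpa using hσ)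
  have hsupp : σ.support = Finset.univ \
      insert 1 (Finset.univ.filter fun z : K ⧸ Cfsg.oddCore K => orderOf z = 2) := by
    ext g
    simp only [σ, Equiv.Perm.mem_support, Equiv.inv_apply, Finset.mem_sdiff, Finset.mem_univ,
      Finset.mem_insert, Finset.mem_filter, true_and]
    constructor
    · rintro h (rfl | h2)
      · exact h inv_one
      · exact h (inv_eq_of_orderOf_eq_two h2)
    · intro h he
      push Not at h
      refine h.2 (orderOf_eq_two_of_mul_self ?_ h.1)
      nth_rw 1 [← he]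
      exact inv_mul_cancel g
  have hc : σ.support.card + (involutionCount K + 1) = Nat.card (K ⧸ Cfsg.oddCore K) := by
    rw [hsupp, involutionCount, Nat.card_eq_fintype_card, Fintype.card_subtype,
      Nat.card_eq_fintype_card, ← Finset.card_univ]
    have hn : (1 : K ⧸ Cfsg.oddCore K) ∉
        Finset.univ.filter fun z : K ⧸ Cfsg.oddCore K => orderOf z = 2 := by simp
    rw [← Finset.card_insert_of_notMem hn]
    exact Finset.card_sdiff_add_card_eq_card (Finset.subset_univ _)
  rw [Nat.odd_iff]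
  rw [Nat.even_iff] at hQ
  omega

theorem one_lt_involutionCount {s t : K} (hs : orderOf s = 2) (ht : orderOf t = 2) (hst : s ≠ t)
    (hc : Commute s t) : 1 < involutionCount K := by
  haveI : Nontrivial {x : K ⧸ Cfsg.oddCore K // orderOf x = 2} := by
    refine ⟨⟨⟨_, orderOf_mk_involution hs⟩, ⟨_, orderOf_mk_involution ht⟩, fun h => hst ?_⟩⟩
    have h' := QuotientGroup.eq.mp (congrArg Subtype.val h)
    have hodd : Odd (orderOf (s⁻¹ * t)) := by
      rw [← Subgroup.orderOf_mk _ h']
      exact (Cores.odd_card_oddCore (G := K)).of_dvd_nat (orderOf_dvd_natCard _)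
    obtain ⟨k, hk⟩ := hodd
    have hsq : (s⁻¹ * t) * (s⁻¹ * t) = 1 := by
      rw [inv_eq_of_orderOf_eq_two hs]
      calc s * t * (s * t) = s * (t * s) * t := by group
        _ = 1 := by
          rw [← hc.eq, ← mul_assoc, mul_self_of_orderOf_eq_two hs, one_mul,
            mul_self_of_orderOf_eq_two ht]
    have h1 := pow_orderOf_eq_one (s⁻¹ * t)
    rw [hk, pow_succ, pow_mul, pow_two, hsq, one_pow, one_mul] at h1
    exact inv_mul_eq_one.mp h1
  exact Finite.one_lt_card

end Abstract

variable {G : Type*} [Group G] [Finite G] {H : Subgroup G}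

theorem commutingInvolutions_congr {K K' : Type*} [Group K] [Finite K] [Group K'] [Finite K']
    (e : K ≃* K') (h : CommutingInvolutions K) : CommutingInvolutions K' := by
  intro s t hs ht
  have h1 := h (e.symm s) (e.symm t) ((MulEquiv.orderOf_eq e.symm s).trans hs)
    ((MulEquiv.orderOf_eq e.symm t).trans ht)
  have hcore : (Cfsg.oddCore K).map e.toMonoidHom = Cfsg.oddCore K' :=
    Cores.pPrimeCore_map_mulEquiv e
  rw [← hcore]
  exact ⟨_, h1, by simp⟩

theorem involutionCount_congr {K K' : Type*} [Group K] [Finite K] [Group K'] [Finite K']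
    (e : K ≃* K') : involutionCount K = involutionCount K' := by
  have hcore : (Cfsg.oddCore K).map e.toMonoidHom = Cfsg.oddCore K' :=
    Cores.pPrimeCore_map_mulEquiv e
  let f := QuotientGroup.congr _ _ e hcore
  exact Nat.card_congr (f.toEquiv.subtypeEquiv fun x => by
    simp [MulEquiv.orderOf_eq f x])

/-- A point stabiliser is isomorphic to `H`. -/
theorem exists_stabilizer_equiv (e : G ⧸ H) :
    Nonempty (H ≃* MulAction.stabilizer G e) := by
  induction e using QuotientGroup.induction_on with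
  | _ g =>
  refine ⟨(H.equivMapOfInjective (MulAut.conj g).toMonoidHom (MulAut.conj g).injective).trans
    (MulEquiv.subgroupCongr ?_)⟩
  ext x
  rw [mem_map_conj, MulAction.mem_stabilizer_iff, se_smul_mk_eq_iff]

/-- Case (i) of S1220: double transitivity. -/
theorem two_transitive_of_commuting (hH : Cfsg.IsStronglyEmbedded H)
    (hcomm : CommutingInvolutions H) {s t : G} (hs : orderOf s = 2) (ht : orderOf t = 2)
    (hst : s ≠ t) (hc : Commute s t) {a b b' : G ⧸ H} (hb : b ≠ a) (hb' : b' ≠ a) :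
    ∃ g : G, g • a = a ∧ g • b = b' := by
  classical
  obtain ⟨p, hsp⟩ := se_exists_fix hH hs
  have htp : t • p = p := se_fix_unique hH hs (by rw [← mul_smul, hc.eq, mul_smul, hsp]) hsp
  obtain ⟨ep⟩ := exists_stabilizer_equiv (H := H) p
  have hk1 : 1 < involutionCount H := by
    rw [involutionCount_congr ep]
    exact one_lt_involutionCount (s := ⟨s, hsp⟩) (t := ⟨t, htp⟩)
      ((Subgroup.orderOf_coe _).symm.trans hs) ((Subgroup.orderOf_coe _).symm.trans ht)
      (fun h => hst (congrArg Subtype.val h)) (Subtype.ext hc.eq)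
  haveI : Fact (involutionCount H).minFac.Prime := ⟨Nat.minFac_prime hk1.ne'⟩
  have hq : Odd (involutionCount H).minFac :=
    (odd_involutionCount hH.2.1).of_dvd_nat (Nat.minFac_dvd _)
  refine two_transitive hH hq ?_ hb hb'
  intro u e z T Y hu hue hze hT hTY hY hYe _ huN
  obtain ⟨ee⟩ := exists_stabilizer_equiv (H := H) e
  set K := MulAction.stabilizer G e
  have hTK : T ≤ K := fun x hx => (mem_pair.mp (hT.le hx)).1
  have hYK : Y ≤ K := fun x hx => hYe x hx
  have hDK : pair e z ≤ K := inf_le_left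
  refine not_normalising (K := K) (commutingInvolutions_congr ee hcomm) hq
    (by rw [← involutionCount_congr ee]; exact Nat.minFac_dvd _)
    (D := (pair e z).subgroupOf K) (T := T.subgroupOf K) (Y := Y.subgroupOf K) ?_ ?_ ?_
    (hY.comap_subtype) (u := ⟨u, hue⟩) ((Subgroup.orderOf_coe _).symm.trans hu) ?_
  · intro x y hx hy
    obtain ⟨d, hd, hdxy⟩ := fix_conj hH (Ne.symm hze) (s := (x : G)) (t := (y : G))
      (by rw [Subgroup.orderOf_coe]; exact hx) (by rw [Subgroup.orderOf_coe]; exact hy) x.2 y.2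
    exact ⟨⟨d, hDK hd⟩, hd, Subtype.ext hdxy⟩
  · refine ⟨fun x hx => hT.le hx, hT.pgroup.comap_subtype, fun P hP hPq => ?_⟩
    rw [Nat.card_congr (subgroupOfEquivOfLe hTK).toEquiv, ← card_map_of_injective K.subtype_injective]
    exact hT.max _ (by rintro _ ⟨x, hx, rfl⟩; exact hP hx) (hPq.map _)
  · exact fun x hx => hTY hx
  · refine mem_normalizer_of_conj_mem fun x hx => ?_
    exact (Subgroup.mem_normalizer_iff.mp huN x).mp hx

/-- The rank one alternative of S1220. -/
theorem rank_one_dichotomy (hH : Cfsg.IsStronglyEmbedded H)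
    (huniq : ∀ s t : G, orderOf s = 2 → orderOf t = 2 → Commute s t → s = t) :
    (∀ S : Sylow 2 G, IsCyclic S ∨
      ∃ m : ℕ, 1 ≤ m ∧ Nonempty ((S : Subgroup G) ≃* QuaternionGroup (2 ^ m))) ∧
    Cfsg.oddCore G ⊔ H = ⊤ := by
  classical
  have hone : ∀ S : Sylow 2 G, ∀ x y : (S : Subgroup G), orderOf x = 2 → orderOf y = 2 → x = y := by
    intro S x y hx hy
    haveI : Nontrivial (S : Subgroup G) := ⟨⟨x, 1, fun h => by
      rw [h, orderOf_one] at hx; exact absurd hx (by norm_num)⟩⟩
    haveI := S.2.center_nontrivial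
    obtain ⟨z, hz⟩ := exists_prime_orderOf_dvd_card' (G := center (S : Subgroup G)) 2 (by
      obtain ⟨n, hn, hcard⟩ := (IsPGroup.nontrivial_iff_card (S.2.to_subgroup (center _))).mp
        inferInstance
      rw [hcard]
      exact dvd_pow_self 2 hn.ne')
    have hzall : ∀ a : (S : Subgroup G), orderOf a = 2 → (a : G) = ((z : (S : Subgroup G)) : G) :=
      fun a ha => huniq _ _ (by rw [Subgroup.orderOf_coe, ha])
        (by rw [Subgroup.orderOf_coe, Subgroup.orderOf_coe, hz])
        (congrArg Subtype.val (mem_center_iff.mp z.2 a))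
    exact Subtype.ext ((hzall x hx).trans (hzall y hy).symm)
  refine ⟨fun S => ?_, ?_⟩
  · rcases Cfsg.Agent.S0016.result 2 S.2 (fun A B hA hB => by
      obtain ⟨x, hx⟩ := exists_prime_orderOf_dvd_card' (G := A) 2 (by rw [hA])
      obtain ⟨y, hy⟩ := exists_prime_orderOf_dvd_card' (G := B) 2 (by rw [hB])
      rw [← Subgroup.orderOf_coe] at hx hy
      have hxy := hone S _ _ hx hy
      have hA' : zpowers (x : (S : Subgroup G)) = A := Subgroup.eq_of_le_of_card_ge
        (zpowers_le.mpr x.2) (by rw [Nat.card_zpowers, hx, hA])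
      have hB' : zpowers (y : (S : Subgroup G)) = B := Subgroup.eq_of_le_of_card_ge
        (zpowers_le.mpr y.2) (by rw [Nat.card_zpowers, hy, hB])
      rw [← hA', ← hB', hxy]) with hc | ⟨-, n, ⟨e⟩⟩
    · exact Or.inl hc
    · rcases Nat.eq_zero_or_pos n with rfl | hn
      · left
        haveI : IsCyclic (QuaternionGroup (2 ^ 0)) := isCyclic_of_orderOf_eq_card
          (QuaternionGroup.xa 0) (by
            rw [QuaternionGroup.orderOf_xa, Nat.card_eq_fintype_card, QuaternionGroup.card,
              pow_zero, mul_one])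
        exact isCyclic_of_surjective e.symm.toMonoidHom e.symm.surjective
      · exact Or.inr ⟨n, hn, ⟨e⟩⟩
  · obtain ⟨u, hu, huH⟩ := se_exists_involution hH
    obtain ⟨P, hP⟩ := (IsPGroup.of_card (G := zpowers u) (n := 1)
      (by rw [Nat.card_zpowers, hu, pow_one])).exists_le_sylow
    have huP : u ∈ P := hP (mem_zpowers _)
    have hiso : ∀ g : G, g * u * g⁻¹ ∈ P → g * u * g⁻¹ = u := fun g hg => by
      have h := hone P ⟨_, hg⟩ ⟨u, huP⟩ (by rw [Subgroup.orderOf_mk, orderOf_conj, hu])
        (by rw [Subgroup.orderOf_mk]; exact hu)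
      exact congrArg Subtype.val h
    have hZ := Cores.glaubermanZStar P hu huP hiso
    rw [eq_top_iff]
    intro g _
    set v := g * u * g⁻¹ with hv
    have hv2 : orderOf v = 2 := by rw [hv, orderOf_conj, hu]
    have hvu : v * u ∈ Cfsg.oddCore G := by
      have h := inv_mem (hZ g)
      have he : (u * g * u⁻¹ * g⁻¹)⁻¹ = v * u := by
        rw [hv, inv_eq_of_orderOf_eq_two hu]
        simp [mul_assoc, inv_eq_of_orderOf_eq_two hu]
      rwa [he] at h
    obtain ⟨k, hk, -, -, hkc⟩ := exists_conj_of_odd hu hv2 (by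
      rw [← Subgroup.orderOf_mk _ hvu]
      exact (Cores.odd_card_oddCore (G := G)).of_dvd_nat (orderOf_dvd_natCard _))
    have hkO : k ∈ Cfsg.oddCore G := zpowers_le.mpr hvu hk
    have hkg : k⁻¹ * g ∈ H := by
      refine se_mem_of_conj hH hu huH ?_
      have : k⁻¹ * g * u * (k⁻¹ * g)⁻¹ = u := by
        rw [show k⁻¹ * g * u * (k⁻¹ * g)⁻¹ = k⁻¹ * v * k by rw [hv]; group, ← hkc]
        group
      rw [this]; exact huH
    have h := mul_mem (mem_sup_left (T := H) hkO) (mem_sup_right (S := Cfsg.oddCore G) hkg)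
    simpa using h

/-- S1220 when the involutions of `H` commute modulo `O(H)`. -/
theorem dichotomy_of_commuting (hH : Cfsg.IsStronglyEmbedded H)
    (hcomm : (∃ s t : G, orderOf s = 2 ∧ orderOf t = 2 ∧ s ≠ t ∧ Commute s t) →
      CommutingInvolutions H) :
    (∀ g₁ g₂ : G, g₁ ∉ H → g₂ ∉ H → ∃ h ∈ H, g₂⁻¹ * (h * g₁) ∈ H) ∨
    ((∀ S : Sylow 2 G, IsCyclic S ∨
      ∃ m : ℕ, 1 ≤ m ∧ Nonempty ((S : Subgroup G) ≃* QuaternionGroup (2 ^ m))) ∧
      Cfsg.oddCore G ⊔ H = ⊤) := by
  by_cases hex : ∃ s t : G, orderOf s = 2 ∧ orderOf t = 2 ∧ s ≠ t ∧ Commute s t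
  · left
    obtain ⟨s, t, hs, ht, hst, hc⟩ := hex
    intro g₁ g₂ h₁ h₂
    have hne : ∀ g : G, g ∉ H → (QuotientGroup.mk g : G ⧸ H) ≠ QuotientGroup.mk 1 := fun g hg h =>
      hg (by simpa using H.inv_mem (QuotientGroup.eq.mp h))
    obtain ⟨g, hg1, hg2⟩ := two_transitive_of_commuting hH (hcomm ⟨s, t, hs, ht, hst, hc⟩) hs ht
      hst hc (hne g₁ h₁) (hne g₂ h₂)
    refine ⟨g, by simpa using se_smul_mk_eq_iff.mp hg1, ?_⟩
    rw [MulAction.Quotient.smul_mk, QuotientGroup.eq, smul_eq_mul] at hg2
    simpa [mul_assoc] using H.inv_mem hg2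
  · right
    push Not at hex
    exact rank_one_dichotomy hH fun s t hs ht hc => by
      by_contra hne
      exact hex s t hs ht hne hc

end Cfsg.Agent.H29.Bender
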