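import Cfsg.Agent.H29.Bender.Sylow

/-!
An odd subgroup `S` with an involution in its normaliser, no such involution fixing a fixed point
of `S`: the involutions of the normaliser lie in one coset of its odd core.
-/

set_option autoImplicit false
set_option linter.style.haveILetI false

namespace Cfsg.Agent.H29.Bender

open Subgroup
open Cfsg.Agent.H39
open Cfsg.Agent.Coprime.SE (Fixed fixed_smul)

variable {G : Type*} [Group G] [Finite G] {H : Subgroup G}

/-- No involution normalising `S` fixes a point fixed by `S`. -/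
def Moves (H S : Subgroup G) : Prop :=
  ∀ v : G, orderOf v = 2 → v ∈ normalizer (S : Set G) → ∀ f : G ⧸ H, Fixed S f → v • f ≠ f

/-- It suffices that one involution normalising `S` has its point outside the fixed points of `S`. -/
theorem moves_of_free (hH : Cfsg.IsStronglyEmbedded H) {S : Subgroup G} {w : G} (hw : orderOf w = 2)
    (hwN : w ∈ normalizer (S : Set G)) (hfree : ∀ c : G ⧸ H, w • c = c → ¬ Fixed S c) :
    Moves H S := by
  intro v hv hvN f hf hvf
  obtain ⟨c, hwc⟩ := se_exists_fix hH hw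
  have hfc : f ≠ c := fun h => hfree c hwc (h ▸ hf)
  rcases Nat.even_or_odd (orderOf (w * v)) with heven | hodd
  · obtain ⟨i, hi, -, hiv, hiw⟩ := exists_central_involution hv hw heven
    have hif : i • f = f :=
      se_fix_unique hH hv (by rw [← mul_smul, ← hiv.eq, mul_smul, hvf]) hvf
    have hic : i • c = c :=
      se_fix_unique hH hw (by rw [← mul_smul, ← hiw.eq, mul_smul, hwc]) hwc
    exact hfc (se_fix_unique hH hi hif hic)
  · obtain ⟨k, hk, -, -, hkc⟩ := exists_conj_of_odd hv hw hodd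
    have hkN : k ∈ normalizer (S : Set G) := zpowers_le.mpr (mul_mem hwN hvN) hk
    refine hfree (k • f) ?_ (fixed_smul hf hkN)
    rw [← hkc, mul_smul, mul_smul, inv_smul_smul, hvf]

variable {S : Subgroup G}

theorem eq_of_commute (hH : Cfsg.IsStronglyEmbedded H) (hS : Odd (Nat.card S)) (hm : Moves H S)
    {u v : G} (hu : orderOf u = 2) (hv : orderOf v = 2) (huN : u ∈ normalizer (S : Set G))
    (hvN : v ∈ normalizer (S : Set G)) (hc : Commute u v) : u = v := by
  by_contra huv
  obtain ⟨p, hup⟩ := se_exists_fix hH hu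
  have hvp : v • p = p := se_fix_unique hH hu (by rw [← mul_smul, hc.eq, mul_smul, hup]) hup
  exact hm u hu huN p (fun _ hs => Cores.SE.four_odd_fix hH hS hu hv huv hc huN hvN hup hvp hs) hup

/-- The involutions of the normaliser lie in one coset of its odd core. -/
theorem exists_mem_oddCore (hH : Cfsg.IsStronglyEmbedded H) (hS : Odd (Nat.card S))
    (hm : Moves H S) {u v : normalizer (S : Set G)} (hu : orderOf u = 2) (hv : orderOf v = 2) :
    ∃ l ∈ Cfsg.oddCore (normalizer (S : Set G)), v = l * u := by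
  have huniq : ∀ a b : ↥(normalizer (S : Set G)), orderOf a = 2 → orderOf b = 2 → Commute a b → a = b := fun a b ha hb hc =>
    Subtype.ext (eq_of_commute hH hS hm (by rwa [Subgroup.orderOf_coe])
      (by rwa [Subgroup.orderOf_coe]) a.2 b.2 (congrArg Subtype.val hc.eq))
  obtain ⟨P, hP⟩ := (IsPGroup.of_card (G := zpowers u) (n := 1)
    (by rw [Nat.card_zpowers, hu, pow_one])).exists_le_sylow
  have huP : u ∈ P := hP (mem_zpowers _)
  haveI : Nontrivial (P : Subgroup (normalizer (S : Set G))) := ⟨⟨⟨u, huP⟩, 1, fun h => by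
    have h' : u = 1 := congrArg Subtype.val h
    rw [h', orderOf_one] at hu
    exact absurd hu (by norm_num)⟩⟩
  haveI := P.2.center_nontrivial
  obtain ⟨z, hz⟩ := exists_prime_orderOf_dvd_card' (G := center (P : Subgroup (normalizer (S : Set G)))) 2 (by
    obtain ⟨n, hn, hcard⟩ := (IsPGroup.nontrivial_iff_card (P.2.to_subgroup (center _))).mp
      inferInstance
    rw [hcard]
    exact dvd_pow_self 2 hn.ne')
  have hPuniq : ∀ a : ↥(normalizer (S : Set G)), a ∈ P → orderOf a = 2 → a = ((z : (P : Subgroup (normalizer (S : Set G)))) : ↥(normalizer (S : Set G))) := fun a ha ha2 =>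
    huniq _ _ ha2 (by rw [Subgroup.orderOf_coe, Subgroup.orderOf_coe, hz])
      (congrArg Subtype.val (mem_center_iff.mp z.2 ⟨a, ha⟩))
  have hiso : ∀ g : ↥(normalizer (S : Set G)), g * u * g⁻¹ ∈ P → g * u * g⁻¹ = u := fun g hg =>
    (hPuniq _ hg (by rw [orderOf_conj, hu])).trans (hPuniq _ huP hu).symm
  have hZ := Cores.glaubermanZStar P hu huP hiso
  obtain ⟨Q, hQ⟩ := (IsPGroup.of_card (G := zpowers v) (n := 1)
    (by rw [Nat.card_zpowers, hv, pow_one])).exists_le_sylow
  obtain ⟨g, hg⟩ := MulAction.exists_smul_eq (normalizer (S : Set G)) Q P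
  have hgv : g * v * g⁻¹ = u := by
    refine (hPuniq _ ?_ (by rw [orderOf_conj, hv])).trans (hPuniq _ huP hu).symm
    rw [← hg]
    exact ⟨_, hQ (mem_zpowers _), rfl⟩
  refine ⟨g⁻¹ * u * g * u⁻¹, ?_, ?_⟩
  · have h := inv_mem (hZ g⁻¹)
    simpa [mul_assoc] using h
  · rw [← hgv]; group

/-- If some point fixed by `S` is swapped with every other one by an involution normalising `S`,
then `S` fixes exactly two points. -/
theorem fixed_eq_of_swapped (hH : Cfsg.IsStronglyEmbedded H) (hS : Odd (Nat.card S))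
    (hm : Moves H S) {w : G} (hw : orderOf w = 2) (hwN : w ∈ normalizer (S : Set G)) {a : G ⧸ H}
    (ha : Fixed S a)
    (hsw : ∀ z, Fixed S z → z ≠ a → ∃ i ∈ normalizer (S : Set G), orderOf i = 2 ∧ i • a = z) :
    ∀ z, Fixed S z → z = a ∨ z = w • a := by
  set N := normalizer (S : Set G) with hN
  have hfix : ∀ l : N, l ∈ Cfsg.oddCore N → (l : G) • a = a := by
    intro l hl
    by_contra hne
    obtain ⟨i, hiN, hi, hix⟩ := hsw _ (fixed_smul ha l.2) hne
    let O : Set (G ⧸ H) := MulAction.orbit (Cfsg.oddCore N) a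
    have hO : ∀ y ∈ O, i • y ∈ O := by
      rintro _ ⟨m, rfl⟩
      refine ⟨⟨(⟨i, hiN⟩ : N) * m * (⟨i, hiN⟩ : N)⁻¹ * l,
        mul_mem (Subgroup.Normal.conj_mem inferInstance _ m.2 _) hl⟩, ?_⟩
      change (i * ((m : N) : G) * i⁻¹ * (l : G)) • a = i • (((m : N) : G) • a)
      rw [mul_smul, ← hix, ← mul_smul]
      simp [mul_smul]
    have hOfix : ∀ y ∈ O, Fixed S y := by
      rintro _ ⟨m, rfl⟩
      exact fixed_smul ha (m : N).2
    have hodd : Odd (Nat.card O) := (Cores.odd_card_oddCore (G := N)).of_dvd_nat (by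
      haveI := Fintype.ofFinite (Cfsg.oddCore N)
      haveI := Fintype.ofFinite O
      haveI := Fintype.ofFinite (MulAction.stabilizer (Cfsg.oddCore N) a)
      rw [Nat.card_eq_fintype_card, Nat.card_eq_fintype_card,
        ← MulAction.card_orbit_mul_card_stabilizer_eq_card_group (Cfsg.oddCore N) a]
      exact dvd_mul_right _ _)
    haveI := Fintype.ofFinite O
    classical
    let f : Function.End O := fun y => ⟨i • y.1, hO _ y.2⟩
    have hf : f ^ 2 ^ 1 = 1 := by
      rw [pow_one, pow_two]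
      funext y
      apply Subtype.ext
      change i • i • y.1 = y.1
      rw [← mul_smul, mul_self_of_orderOf_eq_two hi, one_smul]
    have h := Equiv.Perm.card_fixedPoints_modEq (p := 2) hf
    have hempty : Fintype.card f.fixedPoints = 0 := Fintype.card_eq_zero_iff.mpr
      ⟨fun y => hm i hi hiN _ (hOfix _ y.1.2) (congrArg Subtype.val y.2)⟩
    rw [hempty, ← Nat.card_eq_fintype_card] at h
    exact absurd h (by rw [Nat.ModEq, Nat.odd_iff.mp hodd]; norm_num)
  intro z hz
  by_cases hza : z = a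
  · exact Or.inl hza
  obtain ⟨i, hiN, hi, rfl⟩ := hsw z hz hza
  right
  have hw2 : orderOf (⟨w, hwN⟩ : N) = 2 := by rw [← Subgroup.orderOf_coe]; exact hw
  have hi2 : orderOf (⟨i, hiN⟩ : N) = 2 := by rw [← Subgroup.orderOf_coe]; exact hi
  obtain ⟨l, hl, hil⟩ := exists_mem_oddCore hH hS hm hw2 hi2
  set l' : N := (⟨w, hwN⟩ : N)⁻¹ * l * (⟨w, hwN⟩ : N) with hl'
  have hl'm : l' ∈ Cfsg.oddCore N := by
    rw [hl']
    have := Subgroup.Normal.conj_mem (inferInstance : (Cfsg.oddCore N).Normal) l hl (⟨w, hwN⟩ : N)⁻¹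
    simpa using this
  have hii : i = w * (l' : G) := by
    have h : (⟨i, hiN⟩ : N) = (⟨w, hwN⟩ : N) * l' := by rw [hil, hl']; group
    exact congrArg Subtype.val h
  rw [hii, mul_smul, hfix l' hl'm]

/-- Two fixed points of `S` that are exactly those of a largest `q`-subgroup of the normaliser are
swapped by an involution normalising `S`. -/
theorem exists_swap_of_exact {q : ℕ} [Fact q.Prime] (hq : Odd q)
    (hH : Cfsg.IsStronglyEmbedded H) (hS : Odd (Nat.card S)) (hm : Moves H S) {w : G}
    (hw : orderOf w = 2) (hwN : w ∈ normalizer (S : Set G)) {K : Subgroup G}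
    (hK : IsSyl q (normalizer (S : Set G)) K) (hSK : S ≤ K) {a z : G ⧸ H} (ha : Fixed K a)
    (hex : ∀ x, Fixed K x → x = a ∨ x = z) :
    ∃ i ∈ normalizer (S : Set G), orderOf i = 2 ∧ i • a = z := by
  set N := normalizer (S : Set G) with hN
  set L : Subgroup G := (Cfsg.oddCore N).map N.subtype with hL
  have hLN : L ≤ N := map_subtype_le _
  have hNL : N ≤ normalizer (L : Set G) := by
    intro g hg
    refine mem_normalizer_of_conj_mem ?_
    rintro _ ⟨l, hl, rfl⟩
    exact ⟨⟨g, hg⟩ * l * ⟨g, hg⟩⁻¹, Subgroup.Normal.conj_mem inferInstance _ hl _, rfl⟩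
  set M : Subgroup G := L ⊔ K with hM
  have hMN : M ≤ N := sup_le hLN hK.le
  -- `w` normalises `M`
  have hwcomm : ∀ k ∈ K, w * k * w⁻¹ * k⁻¹ ∈ L := by
    intro k hk
    have hw2 : orderOf (⟨w, hwN⟩ : N) = 2 := by rw [← Subgroup.orderOf_coe]; exact hw
    set kN : N := ⟨k, hK.le hk⟩ with hkN
    obtain ⟨l, hl, hvl⟩ := exists_mem_oddCore hH hS hm (u := kN * ⟨w, hwN⟩ * kN⁻¹) (v := ⟨w, hwN⟩)
      (by rw [orderOf_conj, hw2]) hw2
    refine ⟨l, hl, ?_⟩
    have : l = (⟨w, hwN⟩ : N) * kN * (⟨w, hwN⟩ : N)⁻¹ * kN⁻¹ := by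
      conv_rhs => lhs; lhs; lhs; rw [hvl]
      group
    rw [this]; rfl
  have hwM : w ∈ normalizer (M : Set G) := by
    refine mem_normalizer_of_conj_mem ?_
    intro x hx
    have hle : M ≤ M.comap (MulAut.conj w).toMonoidHom := by
      refine sup_le ?_ ?_
      · intro l hl
        exact mem_sup_left ((Subgroup.mem_normalizer_iff.mp (hNL hwN) l).mp hl)
      · intro k hk
        have h := mul_mem (mem_sup_left (T := K) (hwcomm k hk)) (mem_sup_right (S := L) hk)
        simpa using h
    simpa using hle hx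
  -- `M` is odd
  have hModd : Odd (Nat.card M) := by
    haveI : (L.subgroupOf M).Normal := by
      rw [Subgroup.normal_subgroupOf_iff_le_normalizer le_sup_left]
      exact hMN.trans hNL
    have h1 : Nat.card M = Nat.card L * L.relIndex M := by
      rw [← Subgroup.relIndex_bot_left, ← Subgroup.relIndex_bot_left,
        Subgroup.relIndex_mul_relIndex _ _ _ bot_le le_sup_left]
    have h2 : L.relIndex M = L.relIndex K := by
      rw [hM, sup_comm]
      haveI := Subgroup.normal_subgroupOf_of_le_normalizer (hK.le.trans hNL)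
      haveI := Subgroup.normal_subgroupOf_sup_of_le_normalizer (hK.le.trans hNL)
      exact (Nat.card_congr
        (QuotientGroup.quotientInfEquivProdNormalizerQuotient K L (hK.le.trans hNL)).toEquiv).symm
    rw [h1, h2]
    refine Odd.mul ?_ ((odd_card_of_isPGroup hK.pgroup hq).of_dvd_nat (Subgroup.relIndex_dvd_card _ _))
    rw [hL, card_map_of_injective N.subtype_injective]
    exact Cores.odd_card_oddCore
  have hwM' : w ∉ M := fun h => by
    have h2 : Odd (orderOf w) := by
      rw [← Subgroup.orderOf_mk w h]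
      exact hModd.of_dvd_nat (orderOf_dvd_natCard _)
    rw [hw] at h2
    exact absurd h2 (by decide)
  obtain ⟨d, hd, hdK⟩ := (IsSyl.mk (le_sup_right : K ≤ M) hK.pgroup
    fun P hP hPq => hK.max P (hP.trans hMN) hPq).exists_mul_mem_normalizer hwM
  have hg : d * w ∉ M := fun h => hwM' (by simpa using mul_mem (inv_mem hd) h)
  have hg2 : d * w * (d * w) ∈ M := by
    have h : d * w * (d * w) = d * (w * d * w⁻¹) := by
      rw [inv_eq_of_orderOf_eq_two hw]; group
    rw [h]
    exact mul_mem hd ((Subgroup.mem_normalizer_iff.mp hwM d).mp hd)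
  obtain ⟨k, hi⟩ := exists_involution_of_sq hModd hg2 hg
  set i := d * w * (d * w * (d * w)) ^ k with hidef
  have hdwN : d * w ∈ N := mul_mem (hMN hd) hwN
  have hiN : i ∈ N := mul_mem hdwN (pow_mem (mul_mem hdwN hdwN) k)
  have hiK : i ∈ normalizer (K : Set G) := mul_mem hdK (pow_mem (mul_mem hdK hdK) k)
  refine ⟨i, hiN, hi, (hex _ (fixed_smul ha hiK)).resolve_left ?_⟩
  exact hm i hi hiN a fun s hs => ha s (hSK hs)

end Cfsg.Agent.H29.Bender
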