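import Cfsg.Agent.H29.Bender.RankOne

/-!
THEOREM A: if no involution normalises, at its point, a `q`-subgroup containing a Sylow
`q`-subgroup of a pair stabiliser at that point, the action on the cosets of the strongly embedded
subgroup is doubly transitive.
-/

set_option autoImplicit false
set_option linter.style.haveILetI false

namespace Cfsg.Agent.H29.Bender

open Subgroup
open Cfsg.Agent.H39
open Cfsg.Agent.Coprime.SE (Fixed fixed_smul pair mem_pair swap_symm odd_pair card_pair_eq)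

variable {G : Type*} [Group G] [Finite G] {H : Subgroup G} {q : ℕ} [Fact q.Prime]

/-- The hypothesis `(A_q)`. -/
def NoNormalisingInvolution (H : Subgroup G) (q : ℕ) : Prop :=
  ∀ (u : G) (e z : G ⧸ H) (T Y : Subgroup G), orderOf u = 2 → u • e = e → z ≠ e →
    IsSyl q (pair e z) T → T ≤ Y → IsPGroup q Y → Fixed Y e → (∃ f, f ≠ e ∧ Fixed Y f) →
      u ∉ normalizer (Y : Set G)

/-- A Sylow subgroup of a pair is normalised by a swapper of the pair. -/
theorem exists_swapper (hH : Cfsg.IsStronglyEmbedded H) {a b : G ⧸ H} (hab : a ≠ b)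
    {T : Subgroup G} (hT : IsSyl q (pair a b) T) :
    ∃ w ∈ normalizer (T : Set G), orderOf w = 2 ∧ w • a = b := by
  haveI : Nonempty {i : G // orderOf i = 2 ∧ i • a = b} := by
    obtain ⟨t, ht, htH⟩ := se_exists_involution hH
    refine Finite.card_pos_iff.mp ?_
    rw [se_card_swap hH a b]
    exact Finite.card_pos_iff.mpr ⟨⟨t, ht, htH⟩⟩
  obtain ⟨v, hv, hva⟩ : {i : G // orderOf i = 2 ∧ i • a = b} := Classical.arbitrary _
  have hvb := swap_symm hv hva
  have hvN : v ∈ normalizer (pair a b : Set G) := mem_normalizer_of_conj_mem fun x hx => by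
    obtain ⟨hxa, hxb⟩ := mem_pair.mp hx
    refine mem_pair.mpr ⟨?_, ?_⟩ <;>
      simp [mul_smul, inv_eq_of_orderOf_eq_two hv, hva, hvb, hxa, hxb]
  obtain ⟨d, hd, hdT⟩ := hT.exists_mul_mem_normalizer hvN
  set g := d * v with hg
  have hga : g • a = b := by rw [hg, mul_smul, hva, (mem_pair.mp hd).2]
  have hgb : g • b = a := by rw [hg, mul_smul, hvb, (mem_pair.mp hd).1]
  have hg2 : g * g ∈ pair a b :=
    mem_pair.mpr ⟨by rw [mul_smul, hga, hgb], by rw [mul_smul, hgb, hga]⟩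
  obtain ⟨k, hk⟩ := exists_involution_of_sq (odd_pair hH hab) hg2
    fun h => hab ((mem_pair.mp h).1.symm.trans hga)
  refine ⟨_, mul_mem hdT (pow_mem (mul_mem hdT hdT) k), hk, ?_⟩
  rw [mul_smul, (mem_pair.mp (pow_mem hg2 k)).1, hga]

omit [Fact q.Prime] in
theorem fixed_pair_of_le {P : Subgroup G} {x y : G ⧸ H} (h : P ≤ pair x y) :
    Fixed P x ∧ Fixed P y :=
  ⟨fun _ hs => (h hs).1, fun _ hs => (h hs).2⟩

/-- Under `(A_q)` a swapper normalising a pair Sylow has its point outside its fixed points. -/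
theorem moves_sylow (hH : Cfsg.IsStronglyEmbedded H) (hA : NoNormalisingInvolution H q)
    {a b : G ⧸ H} (hab : a ≠ b) {T : Subgroup G} (hT : IsSyl q (pair a b) T) {w : G}
    (hw : orderOf w = 2) (hwN : w ∈ normalizer (T : Set G)) (hwa : w • a = b) : Moves H T := by
  refine moves_of_free hH hw hwN fun c hwc hTc => ?_
  have hca : a ≠ c := fun h => hab (by rw [← hwa, h, hwc])
  have hT' : IsSyl q (pair c a) T := by
    refine ⟨fun t ht => mem_pair.mpr ⟨hTc t ht, (mem_pair.mp (hT.le ht)).1⟩, hT.pgroup,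
      fun P hP hPq => ?_⟩
    obtain ⟨T', hPT', hT'⟩ := exists_isSyl_ge hP hPq
    refine (Nat.le_of_dvd Nat.card_pos (card_dvd_of_le hPT')).trans (le_of_eq ?_)
    rw [hT'.card_eq, hT.card_eq, card_pair_eq hH hab hw hwa hwc]
  exact hA w c a T T hw hwc hca hT' le_rfl hT.pgroup hTc ⟨a, hca, (fixed_pair_of_le hT'.le).2⟩ hwN

/-- A largest `q`-subgroup of `N` among those fixing a pair, with no further fixed point, is a
Sylow subgroup of `N`. -/
theorem isSyl_of_exact (hq : Odd q) {N K : Subgroup G} {x y : G ⧸ H}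
    (hK : IsSyl q (N ⊓ pair x y) K) (hex : ∀ z, Fixed K z → z = x ∨ z = y) : IsSyl q N K := by
  obtain ⟨P, hKP, hP⟩ := exists_isSyl_ge (hK.le.trans inf_le_left) hK.pgroup
  suffices h : P = K by exact h ▸ hP
  by_contra hne
  obtain ⟨g, hgP, hgK, hgN⟩ := exists_mem_normalizer_not_mem hP.pgroup
    (lt_of_le_of_ne hKP (Ne.symm hne))
  obtain ⟨hKx, hKy⟩ := fixed_pair_of_le (hK.le.trans inf_le_right)
  obtain ⟨hgx, hgy⟩ := fix_pair_of_odd (odd_orderOf_of_isPGroup hP.pgroup hq hgP)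
    (hex _ (fixed_smul hKx hgN)) (hex _ (fixed_smul hKy hgN))
  have hle : K ⊔ zpowers g ≤ N ⊓ pair x y :=
    sup_le hK.le (zpowers_le.mpr ⟨hP.le hgP, hgx, hgy⟩)
  have := hK.eq_of_ge le_sup_left hle (hP.pgroup.to_le (sup_le hKP (zpowers_le.mpr hgP)))
  exact hgK (this ▸ mem_sup_right (mem_zpowers g))

/-- Two fixed points of a `q`-group `Y` that is not the Sylow subgroup of their pair. -/
theorem exists_gt_in_normalizer {Y S : Subgroup G} {x y : G ⧸ H} (hS : IsSyl q (pair x y) S)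
    (hYS : Y < S) :
    ∃ K, Y < K ∧ IsSyl q (normalizer (Y : Set G) ⊓ pair x y) K := by
  obtain ⟨g, hgS, hgY, hgN⟩ := exists_mem_normalizer_not_mem hS.pgroup hYS
  have hle : Y ⊔ zpowers g ≤ normalizer (Y : Set G) ⊓ pair x y :=
    le_inf (sup_le Subgroup.le_normalizer (zpowers_le.mpr hgN))
      ((sup_le hYS.le (zpowers_le.mpr hgS)).trans hS.le)
  obtain ⟨K, hK, hKs⟩ :=
    exists_isSyl_ge hle (hS.pgroup.to_le (sup_le hYS.le (zpowers_le.mpr hgS)))
  exact ⟨K, lt_of_le_of_ne (le_sup_left.trans hK) fun h =>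
    hgY (h ▸ hK (mem_sup_right (mem_zpowers g))), hKs⟩

/-- Under `(A_q)` a Sylow subgroup of a pair stabiliser fixes exactly that pair. -/
theorem sylow_fixed_eq (hH : Cfsg.IsStronglyEmbedded H) (hq : Odd q)
    (hA : NoNormalisingInvolution H q) {a b : G ⧸ H} (hab : a ≠ b) {T : Subgroup G}
    (hT : IsSyl q (pair a b) T) {x : G ⧸ H} (hx : Fixed T x) : x = a ∨ x = b := by
  classical
  by_contra! hne
  let Bad : Subgroup G → Prop := fun S =>
    ∃ a b x : G ⧸ H, a ≠ b ∧ IsSyl q (pair a b) S ∧ Fixed S x ∧ x ≠ a ∧ x ≠ b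
  haveI : Nonempty {S : Subgroup G // Bad S} := ⟨⟨T, a, b, x, hab, hT, hx, hne.1, hne.2⟩⟩
  obtain ⟨⟨T₀, hbad⟩, hmax⟩ :=
    Finite.exists_max fun S : {S : Subgroup G // Bad S} => Nat.card S.1
  clear hne hx hT hab T a b x
  obtain ⟨a, b, x, hab, hT, hx, hxa, hxb⟩ := hbad
  have hbig : ∀ {y z : G ⧸ H}, y ≠ z → ∀ {S : Subgroup G}, IsSyl q (pair y z) S →
      Nat.card T₀ < Nat.card S → ∀ v, Fixed S v → v = y ∨ v = z := by
    intro y z hyz S hS hlt v hv
    by_contra! h
    exact (hmax ⟨S, y, z, v, hyz, hS, hv, h.1, h.2⟩).not_gt hlt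
  have hTodd := odd_card_of_isPGroup hT.pgroup hq
  have hTa : Fixed T₀ a := (fixed_pair_of_le hT.le).1
  -- no larger `q`-group fixes `a` and two more points
  have claim : ∀ Y : Subgroup G, IsPGroup q Y → T₀ < Y → Fixed Y a →
      ∀ y z, y ≠ a → z ≠ a → y ≠ z → Fixed Y y → Fixed Y z → False := by
    by_contra! hcon
    obtain ⟨Y₁, hY₁⟩ := hcon
    let Fam : Subgroup G → Prop := fun Y => IsPGroup q Y ∧ T₀ < Y ∧ Fixed Y a ∧
      ∃ y z, y ≠ a ∧ z ≠ a ∧ y ≠ z ∧ Fixed Y y ∧ Fixed Y z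
    haveI : Nonempty {Y : Subgroup G // Fam Y} := by
      obtain ⟨h1, h2, h3, y, z, h4, h5, h6, h7, h8, -⟩ := hY₁
      exact ⟨⟨Y₁, h1, h2, h3, y, z, h4, h5, h6, h7, h8⟩⟩
    obtain ⟨⟨Y, hYq, hTY, hYa, y₀, z₀, hya, hza, hyz, hYy, hYz⟩, hYmax⟩ :=
      Finite.exists_max fun Y : {Y : Subgroup G // Fam Y} => Nat.card Y.1
    have hTcard : Nat.card T₀ < Nat.card Y :=
      lt_of_not_ge fun h => hTY.ne (Subgroup.eq_of_le_of_card_ge hTY.le h)
    have hYodd := odd_card_of_isPGroup hYq hq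
    set N := normalizer (Y : Set G) with hN
    have hex : ∀ z, Fixed Y z → z ≠ a → ∃ K, Y < K ∧ IsSyl q (N ⊓ pair a z) K ∧
        ∀ v, Fixed K v → v = a ∨ v = z := by
      intro z hz hza'
      obtain ⟨S, hYS, hS⟩ := exists_isSyl_ge (D := pair a z)
        (fun s hs => mem_pair.mpr ⟨hYa s hs, hz s hs⟩) hYq
      have hlt : Nat.card T₀ < Nat.card S :=
        hTcard.trans_le (Nat.le_of_dvd Nat.card_pos (card_dvd_of_le hYS))
      have hS2 := hbig (Ne.symm hza') hS hlt
      have hYS' : Y < S := lt_of_le_of_ne hYS fun h => by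
        subst h
        exact hyz (((hS2 y₀ hYy).resolve_left hya).trans ((hS2 z₀ hYz).resolve_left hza).symm)
      obtain ⟨K, hYK, hK⟩ := exists_gt_in_normalizer hS hYS'
      refine ⟨K, hYK, hK, fun v hv => ?_⟩
      by_contra! h
      obtain ⟨hKa, hKz⟩ := fixed_pair_of_le (hK.le.trans inf_le_right)
      have := hYmax ⟨K, hK.pgroup, hTY.trans hYK, hKa, z, v, hza', h.1, Ne.symm h.2, hKz, hv⟩
      exact hYK.ne (Subgroup.eq_of_le_of_card_ge hYK.le this)
    -- the normaliser of `Y` moves `a`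
    obtain ⟨n, hnN, hna⟩ : ∃ n ∈ N, n • a ≠ a := by
      by_contra! hfix
      obtain ⟨S, hYS, hS⟩ := exists_isSyl_ge (D := pair y₀ z₀)
        (fun s hs => mem_pair.mpr ⟨hYy s hs, hYz s hs⟩) hYq
      have hS2 := hbig hyz hS (hTcard.trans_le (Nat.le_of_dvd Nat.card_pos (card_dvd_of_le hYS)))
      have hYS' : Y < S := lt_of_le_of_ne hYS fun h => by
        subst h
        exact (hS2 a hYa).elim (Ne.symm hya) (Ne.symm hza)
      obtain ⟨g, hgS, hgY, hgN⟩ := exists_mem_normalizer_not_mem hS.pgroup hYS'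
      obtain ⟨hSy, hSz⟩ := fixed_pair_of_le hS.le
      have hlt : Y < Y ⊔ zpowers g := lt_of_le_of_ne le_sup_left fun h =>
        hgY (h.symm ▸ mem_sup_right (mem_zpowers g))
      have hle : Y ⊔ zpowers g ≤ S := sup_le hYS (zpowers_le.mpr hgS)
      have hga : Fixed (Y ⊔ zpowers g) a := fun s hs =>
        (sup_le (fun t ht => hYa t ht) (zpowers_le.mpr (hfix g hgN)) :
          Y ⊔ zpowers g ≤ MulAction.stabilizer G a) hs
      have := hYmax ⟨Y ⊔ zpowers g, hS.pgroup.to_le hle, hTY.trans hlt, hga, y₀, z₀, hya, hza,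
        hyz, fun s hs => hSy s (hle hs), fun s hs => hSz s (hle hs)⟩
      exact hlt.ne (Subgroup.eq_of_le_of_card_ge hlt.le this)
    have hfna : Fixed Y (n • a) := fixed_smul hYa hnN
    obtain ⟨K₀, hYK₀, hK₀, hK₀ex⟩ := hex _ hfna hna
    have hK₀N := isSyl_of_exact hq hK₀ hK₀ex
    obtain ⟨hK₀a, hK₀n⟩ := fixed_pair_of_le (hK₀.le.trans inf_le_right)
    -- the normaliser has an involution
    obtain ⟨g, hgN, hgK, hga⟩ := witt hK₀N hK₀a hK₀n hnN rfl
    have hgz : g • n • a = a := (hK₀ex _ (fixed_smul hK₀n hgK)).resolve_right fun h =>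
      hna (MulAction.injective g (h.trans hga.symm))
    have hg2 : g * g ∈ pair a (n • a) :=
      mem_pair.mpr ⟨by rw [mul_smul, hga, hgz], by rw [mul_smul, hgz, hga]⟩
    obtain ⟨k, hu⟩ := exists_involution_of_sq (odd_pair hH (Ne.symm hna)) hg2
      fun h => hna (hga.symm.trans (mem_pair.mp h).1)
    have huN : g * (g * g) ^ k ∈ N := mul_mem hgN (pow_mem (mul_mem hgN hgN) k)
    -- the normaliser is transitive on the fixed points
    have htr : ∀ f, Fixed Y f → ∃ m ∈ N, m • a = f := by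
      intro f hf
      by_cases hfa : f = a
      · exact ⟨1, one_mem _, by rw [one_smul, hfa]⟩
      obtain ⟨K, -, hK, hKex⟩ := hex f hf hfa
      obtain ⟨m, hm, hmK⟩ := hK₀N.exists_conj (isSyl_of_exact hq hK hKex)
      have hKfix : ∀ v : G ⧸ H, Fixed K₀ v → Fixed K (m • v) := by
        intro v hv s hs
        rw [← hmK] at hs
        obtain ⟨t, ht, rfl⟩ := hs
        simp [mul_smul, hv t ht]
      rcases hKex _ (hKfix _ hK₀a) with h | h
      · rcases hKex _ (hKfix _ hK₀n) with h' | h'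
        · exact absurd (MulAction.injective m (h'.trans h.symm)) hna
        · exact ⟨m * n, mul_mem hm hnN, by rw [mul_smul, h']⟩
      · exact ⟨m, hm, h⟩
    have hmY : Moves H Y := by
      intro v hv hvN f hf hvf
      obtain ⟨m, hm, rfl⟩ := htr f hf
      refine hA (m⁻¹ * v * m) a b T₀ Y ?_ ?_ (Ne.symm hab) hT hTY.le hYq hYa ⟨y₀, hya, hYy⟩
        (mul_mem (mul_mem (inv_mem hm) hvN) hm)
      · have := orderOf_conj m⁻¹ v
        rw [inv_inv] at this
        rw [this, hv]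
      · rw [mul_smul, mul_smul, hvf, inv_smul_smul]
    have h2 := fixed_eq_of_swapped hH hYodd hmY hu huN hYa fun z hz hza' => by
      obtain ⟨K, hYK, hK, hKex⟩ := hex z hz hza'
      exact exists_swap_of_exact hq hH hYodd hmY hu huN (isSyl_of_exact hq hK hKex) hYK.le
        (fixed_pair_of_le (hK.le.trans inf_le_right)).1 hKex
    exact hyz (((h2 y₀ hYy).resolve_left hya).trans ((h2 z₀ hYz).resolve_left hza).symm)
  obtain ⟨w, hwN, hw, hwa⟩ := exists_swapper hH hab hT
  have hm := moves_sylow hH hA hab hT hw hwN hwa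
  have h2 := fixed_eq_of_swapped hH hTodd hm hw hwN hTa fun z hz hza => by
    obtain ⟨S, hTS, hS⟩ := exists_isSyl_ge (D := pair a z)
      (fun s hs => mem_pair.mpr ⟨hTa s hs, hz s hs⟩) hT.pgroup
    by_cases hle : Nat.card S ≤ Nat.card T₀
    · obtain rfl := Subgroup.eq_of_le_of_card_ge hTS hle
      obtain ⟨i, hiN, hi, hia⟩ := exists_swapper hH (Ne.symm hza) hS
      exact ⟨i, hiN, hi, hia⟩
    · have hTS' : T₀ < S := lt_of_le_of_ne hTS fun h => hle (h ▸ le_rfl)
      obtain ⟨K, hTK, hK⟩ := exists_gt_in_normalizer hS hTS'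
      obtain ⟨hKa, hKz⟩ := fixed_pair_of_le (hK.le.trans inf_le_right)
      have hKex : ∀ v, Fixed K v → v = a ∨ v = z := fun v hv => by
        by_contra! h
        exact claim K hK.pgroup hTK hKa z v hza h.1 (Ne.symm h.2) hKz hv
      exact exists_swap_of_exact hq hH hTodd hm hw hwN (isSyl_of_exact hq hK hKex) hTK.le hKa hKex
  exact hxb (((h2 x hx).resolve_left hxa).trans hwa)

/-- THEOREM A: `(A_q)` implies double transitivity. -/
theorem two_transitive (hH : Cfsg.IsStronglyEmbedded H) (hq : Odd q)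
    (hA : NoNormalisingInvolution H q) {a b b' : G ⧸ H} (hb : b ≠ a) (hb' : b' ≠ a) :
    ∃ g : G, g • a = a ∧ g • b = b' := by
  have key : ∀ y : G ⧸ H, y ≠ a → ∃ S, IsSyl q ⊤ S ∧ Fixed S a ∧ Fixed S y ∧
      ∀ v, Fixed S v → v = a ∨ v = y := by
    intro y hy
    obtain ⟨S, -, hS⟩ := exists_isSyl_ge (D := pair a y) bot_le (IsPGroup.of_bot (p := q))
    have hex : ∀ v, Fixed S v → v = a ∨ v = y := fun v hv =>
      sylow_fixed_eq hH hq hA (Ne.symm hy) hS hv
    exact ⟨S, isSyl_of_exact hq (x := a) (y := y) (by rwa [top_inf_eq]) hex,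
      (fixed_pair_of_le hS.le).1, (fixed_pair_of_le hS.le).2, hex⟩
  obtain ⟨S, hS, hSa, hSb, -⟩ := key b hb
  obtain ⟨S', hS', -, -, hS'ex⟩ := key b' hb'
  obtain ⟨g, -, hg⟩ := hS.exists_conj hS'
  have hfix : ∀ v : G ⧸ H, Fixed S v → Fixed S' (g • v) := by
    intro v hv s hs
    rw [← hg] at hs
    obtain ⟨t, ht, rfl⟩ := hs
    simp [mul_smul, hv t ht]
  rcases hS'ex _ (hfix _ hSa) with h | h
  · exact ⟨g, h, (hS'ex _ (hfix _ hSb)).resolve_left fun h' =>
      hb (MulAction.injective g (h'.trans h.symm))⟩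
  · have hgb : g • b = a := (hS'ex _ (hfix _ hSb)).resolve_right fun h' =>
      hb (MulAction.injective g (h'.trans h.symm))
    haveI : Nonempty {i : G // orderOf i = 2 ∧ i • a = b} := by
      obtain ⟨t, ht, htH⟩ := se_exists_involution hH
      refine Finite.card_pos_iff.mp ?_
      rw [se_card_swap hH a b]
      exact Finite.card_pos_iff.mpr ⟨⟨t, ht, htH⟩⟩
    obtain ⟨w, hw, hwa⟩ : {i : G // orderOf i = 2 ∧ i • a = b} := Classical.arbitrary _
    exact ⟨g * w, by rw [mul_smul, hwa, hgb], by rw [mul_smul, swap_symm hw hwa, h]⟩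

end Cfsg.Agent.H29.Bender
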